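import Cfsg.Agent.H84.GaussTwF4B
import Cfsg.Agent.H67.TwFFourOdd
import Cfsg.Agent.S2457
set_option linter.all false

-- part: H84/GaussTwF4C
section
/-!
# A class of `²F₄(q)` whose square covers the non-trivial elements

`x = s * h 1 d`, `s` of order five in the Levi factor `⟨X_0, X_8⟩`.
-/

set_option autoImplicit false
set_option linter.unusedSectionVars false

namespace Cfsg.Agent.H84.GaussTwF4

open Cfsg.Agent.SplitTwo Cfsg.Agent.SplitTwo.ZS Cfsg.Agent.TitsThree.RankTwoZ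
open Cfsg.Agent.KFacts.TwF4 Cfsg.Agent.KFacts.TwF4.Arc Cfsg.Agent.KFacts.TwF4.Inv
open Cfsg.Agent.H84.TwF4Two

universe u

theorem conj_of_fpf {G : Type u} [Group G] {A : Subgroup G} [Finite A] {x : G} (hn : ∀ a ∈ A, x * a * x⁻¹ ∈ A)
    (hf : ∀ a ∈ A, x * a = a * x → a = 1) {v : G} (hv : v ∈ A) : ∃ a ∈ A, v * x = a * x * a⁻¹ := by
  let φ : A → A := fun a => ⟨a * (x * (a : G)⁻¹ * x⁻¹), mul_mem a.2 (hn _ (inv_mem a.2))⟩
  have hφ : Function.Injective φ := by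
    intro a b h
    have h1 : (a : G) * (x * (a : G)⁻¹ * x⁻¹) = b * (x * (b : G)⁻¹ * x⁻¹) := congrArg Subtype.val h
    have h2 : (b : G)⁻¹ * a = 1 := by
      refine hf _ (mul_mem (inv_mem b.2) a.2) ?_
      calc x * ((b : G)⁻¹ * a) = (b : G)⁻¹ * (b * (x * (b : G)⁻¹ * x⁻¹)) * x * a := by group
        _ = (b : G)⁻¹ * (a * (x * (a : G)⁻¹ * x⁻¹)) * x * a := by rw [h1]
        _ = (b : G)⁻¹ * a * x := by group
    exact Subtype.ext (inv_mul_eq_one.1 h2).symm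
  obtain ⟨a, ha⟩ := Finite.surjective_of_injective hφ ⟨v, hv⟩
  refine ⟨a, a.2, ?_⟩
  have h1 : (a : G) * (x * (a : G)⁻¹ * x⁻¹) = v := congrArg Subtype.val ha
  rw [← h1]; group

theorem conj_of_fpf' {G : Type u} [Group G] {A : Subgroup G} [Finite A] {x : G} (hn : ∀ a ∈ A, x * a * x⁻¹ ∈ A)
    (hf : ∀ a ∈ A, x * a = a * x → a = 1) {v : G} (hv : v ∈ A) : ∃ a ∈ A, x * v = a * x * a⁻¹ := by
  obtain ⟨a, ha, h⟩ := conj_of_fpf hn hf (hn v hv)
  exact ⟨a, ha, by rw [← h]; group⟩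

variable {F : Type*} [Field F] {σ : F →+* F} {G : Type u} [Group G] {S : Full σ G}

theorem fix_J {t : G} (ht : t ∈ S.T) {a0 b : ℤ} (hb : b < a0 + 8)
    (hfix : ∀ k, a0 ≤ k → k ≤ b → ∀ x ∈ S.XZ k, t * x = x * t → x = 1) :
    ∀ n : ℕ, ∀ a : ℤ, a0 ≤ a → a + n = b + 1 → ∀ x ∈ J S.XZ a b, t * x = x * t → x = 1 := by
  intro n
  induction n with
  | zero =>
    intro a h0 h1 x hx h
    have : J S.XZ a b = ⊥ := by
      rw [eq_bot_iff]
      exact J_le fun k h2 h3 => by exfalso; push_cast at h1; omega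
    rw [this] at hx
    exact hx
  | succ n ih =>
    intro a h0 h1 x hx h
    push_cast at h1
    obtain ⟨x1, hx1, x', hx', rfl⟩ := S.zsys8.split_ll (a := a) (b := b) (by omega) (by omega) hx
    have e1 : x1⁻¹ * (t * x1 * t⁻¹) = x' * (t * x' * t⁻¹)⁻¹ := by
      have h2 : t * x1 * t⁻¹ * (t * x' * t⁻¹) = x1 * x' := by
        calc t * x1 * t⁻¹ * (t * x' * t⁻¹) = t * (x1 * x') * t⁻¹ := by group
          _ = x1 * x' := by rw [h]; group
      rw [eq_mul_inv_iff_mul_eq, mul_assoc, h2]; group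
    have h3 : x1⁻¹ * (t * x1 * t⁻¹) ∈ S.XZ a := mul_mem (inv_mem hx1) (S.T_conj ht a hx1)
    have h4 : x1⁻¹ * (t * x1 * t⁻¹) ∈ J S.XZ (a + 1) b := by
      rw [e1]; exact mul_mem hx' (inv_mem (S.T_conj_J ht hx'))
    have h5 := S.zsys8.inter a _ h3 (J_mono le_rfl (by omega) h4)
    have h6 : t * x1 = x1 * t := (mul_inv_eq_iff_eq_mul.1 (inv_mul_eq_one.1 h5).symm)
    have h7 : t * x' = x' * t := by
      rw [e1] at h5
      exact mul_inv_eq_iff_eq_mul.1 (mul_inv_eq_one.1 h5).symm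
    rw [hfix a h0 (by omega) x1 hx1 h6, ih (a + 1) (by omega) (by omega) x' hx' h7, one_mul]

theorem fix_o {a : ZMod 8} {c d : Fˣ} (hχ : chO σ a c d ≠ 1) {s : F} (h : S.h c d * S.o a s = S.o a s * S.h c d) :
    S.o a s = 1 := by
  have h1 := S.h_o c d a s
  rw [h, mul_inv_cancel_right] at h1
  have h2 := S.injO a h1
  by_cases hs : s = 0
  · rw [hs, S.o_zero]
  · exfalso
    apply hχ
    apply Units.ext
    have h3 : (1 : F) * s = (chO σ a c d : F) * s := by rw [one_mul]; exact h2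
    exact (mul_right_cancel₀ hs h3).symm

theorem fix_e {a : ZMod 8} {c d : Fˣ} (hχ : chE σ a c d ≠ 1) {p u : F}
    (h : S.h c d * S.e a p u = S.e a p u * S.h c d) : S.e a p u = 1 := by
  have h1 := S.h_e c d a p u
  rw [h, mul_inv_cancel_right] at h1
  obtain ⟨h2, h3⟩ := S.injE a _ _ _ _ h1
  have hp : p = 0 := by
    by_contra hp
    apply hχ
    apply Units.ext
    have h4 : (1 : F) * p = (chE σ a c d : F) * p := by rw [one_mul]; exact h2
    exact (mul_right_cancel₀ hp h4).symm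
  have hu : u = 0 := by
    by_contra hu
    apply hχ
    apply S.unit_eq_one
    apply Units.ext
    have h4 : (1 : F) * u = (chE σ a c d : F) * σ (chE σ a c d : F) * u := by rw [one_mul]; exact h3
    exact (mul_right_cancel₀ hu h4).symm
  rw [hp, hu, S.e_zero]

theorem map_ne {e : Fˣ} (he : e ≠ 1) : Units.map (σ : F →* F) e ≠ 1 := by
  intro h
  apply he
  exact Units.ext (σ.injective (by rw [Units.val_one, map_one]; exact congrArg Units.val h))

theorem fix_X {e : Fˣ} (he : e ≠ 1) {k : ℤ} (hk : 1 ≤ k ∧ k ≤ 7 ∨ 9 ≤ k ∧ k ≤ 15) {x : G} (hx : x ∈ S.XZ k)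
    (h : S.h 1 e * x = x * S.h 1 e) : x = 1 := by
  have h1 : e⁻¹ ≠ 1 := inv_ne_one.2 he
  have h2 := map_ne (σ := σ) he
  have h3 : (Units.map (σ : F →* F) e)⁻¹ ≠ 1 := inv_ne_one.2 h2
  have h4 : e * Units.map (σ : F →* F) e ≠ 1 := fun h => he (S.unit_eq_one h)
  have hO : ∀ a : ℤ, chO σ (a : ZMod 8) 1 e ≠ 1 → k = 2 * a + 1 → x = 1 := by
    intro a ha hk
    rw [hk] at hx
    obtain ⟨s, rfl⟩ := (S.mem_XZ_odd a x).1 hx
    exact fix_o ha h
  have hE : ∀ a : ℤ, chE σ (a : ZMod 8) 1 e ≠ 1 → k = 2 * a → x = 1 := by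
    intro a ha hk
    rw [hk] at hx
    obtain ⟨p, u, rfl⟩ := (S.mem_XZ_even a x).1 hx
    exact fix_e ha h
  have hk' : k = 1 ∨ k = 2 ∨ k = 3 ∨ k = 4 ∨ k = 5 ∨ k = 6 ∨ k = 7 ∨ k = 9 ∨ k = 10 ∨ k = 11 ∨ k = 12 ∨ k = 13 ∨
      k = 14 ∨ k = 15 := by omega
  have c0 : chE σ 0 1 e = 1 := rfl
  have c1 : chE σ 1 1 e = e := rfl
  have c2 : chE σ 2 1 e = Units.map (σ : F →* F) e := by rw [chE_two, div_one]
  have c3 : chE σ 3 1 e = e := by rw [chE_three, map_one, div_one]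
  have c4 : chE σ 4 1 e = 1 := by rw [chE_four, inv_one]
  have c5 : chE σ 5 1 e = e⁻¹ := rfl
  have c6 : chE σ 6 1 e = (Units.map (σ : F →* F) e)⁻¹ := by rw [chE_six, one_div]
  have c7 : chE σ 7 1 e = e⁻¹ := by rw [chE_seven, map_one, one_div]
  have o0 : chO σ 0 1 e = e := by
    show chE σ 0 1 e * chE σ 1 1 e = e
    rw [c0, c1, one_mul]
  have o1 : chO σ 1 1 e = e * Units.map (σ : F →* F) e := by
    show chE σ 1 1 e * chE σ 2 1 e = _
    rw [c1, c2]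
  have o2 : chO σ 2 1 e = e * Units.map (σ : F →* F) e := by
    show chE σ 2 1 e * chE σ 3 1 e = _
    rw [c2, c3, mul_comm]
  have o3 : chO σ 3 1 e = e := by
    show chE σ 3 1 e * chE σ 4 1 e = _
    rw [c3, c4, mul_one]
  have o4 : chO σ 4 1 e = e⁻¹ := by
    show chE σ 4 1 e * chE σ 5 1 e = _
    rw [c4, c5, one_mul]
  have o5 : chO σ 5 1 e = (e * Units.map (σ : F →* F) e)⁻¹ := by
    show chE σ 5 1 e * chE σ 6 1 e = _
    rw [c5, c6, mul_inv]
  have o6 : chO σ 6 1 e = (e * Units.map (σ : F →* F) e)⁻¹ := by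
    show chE σ 6 1 e * chE σ 7 1 e = _
    rw [c6, c7, mul_inv, mul_comm]
  have o7 : chO σ 7 1 e = e⁻¹ := by
    show chE σ 7 1 e * chE σ (7 + 1) 1 e = _
    rw [show (7 : ZMod 8) + 1 = 0 by decide, c7, c0, mul_one]
  have h5 : (e * Units.map (σ : F →* F) e)⁻¹ ≠ 1 := inv_ne_one.2 h4
  rcases hk' with hk | hk | hk | hk | hk | hk | hk | hk | hk | hk | hk | hk | hk | hk
  · exact hO 0 (by push_cast; rw [o0]; exact he) (by omega)
  · exact hE 1 (by push_cast; rw [c1]; exact he) (by omega)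
  · exact hO 1 (by push_cast; rw [o1]; exact h4) (by omega)
  · exact hE 2 (by push_cast; rw [c2]; exact h2) (by omega)
  · exact hO 2 (by push_cast; rw [o2]; exact h4) (by omega)
  · exact hE 3 (by push_cast; rw [c3]; exact he) (by omega)
  · exact hO 3 (by push_cast; rw [o3]; exact he) (by omega)
  · exact hO 4 (by push_cast; rw [o4]; exact h1) (by omega)
  · exact hE 5 (by push_cast; rw [c5]; exact h1) (by omega)
  · exact hO 5 (by push_cast; rw [o5]; exact h5) (by omega)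
  · exact hE 6 (by push_cast; rw [c6]; exact h3) (by omega)
  · exact hO 6 (by push_cast; rw [o6]; exact h5) (by omega)
  · exact hE 7 (by push_cast; rw [c7]; exact h1) (by omega)
  · exact hO 7 (by push_cast; rw [o7]; exact h1) (by omega)

theorem fix17 {e : Fˣ} (he : e ≠ 1) {x : G} (hx : x ∈ J S.XZ 1 7) (h : S.h 1 e * x = x * S.h 1 e) : x = 1 :=
  fix_J (a0 := 1) (b := 7) (S.mem_T.2 ⟨_, _, rfl⟩) (by norm_num)
    (fun k h1 h2 x hx => fix_X he (Or.inl ⟨h1, h2⟩) hx) 7 1 le_rfl (by norm_num) x hx h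

theorem fix915 {e : Fˣ} (he : e ≠ 1) {x : G} (hx : x ∈ J S.XZ 9 15) (h : S.h 1 e * x = x * S.h 1 e) : x = 1 :=
  fix_J (a0 := 9) (b := 15) (S.mem_T.2 ⟨_, _, rfl⟩) (by norm_num)
    (fun k h1 h2 x hx => fix_X he (Or.inr ⟨h1, h2⟩) hx) 7 9 le_rfl (by norm_num) x hx h

theorem h_pow' (d : Fˣ) (n : ℕ) : S.h 1 d ^ n = S.h 1 (d ^ n) := by
  induction n with
  | zero => rw [pow_zero, pow_zero, S.h_one]
  | succ n ih => rw [pow_succ, ih, S.h_mul, one_mul, pow_succ]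

/-- **The covering.** -/
theorem cover [Finite F] [Finite G] {s : G} (hs : s ∈ LL S) {n : ℕ} (hsn : s ^ n = 1)
    (hcov : ∀ l ∈ LL S, ∃ a ∈ LL S, ∃ b ∈ LL S, l = (a * s * a⁻¹) * (b * s * b⁻¹)) {d : Fˣ} (hd : d ^ n ≠ 1) {g : G}
    (hg : g ≠ 1) : ∃ u v : G, g = (u * (s * S.h 1 d) * u⁻¹) * (v * (s * S.h 1 d) * v⁻¹) := by
  have hc := h_comm_LL d hs
  have hxn : (s * S.h 1 d) ^ n = S.h 1 (d ^ n) := by
    have : Commute s (S.h 1 d) := hc.symm
    rw [this.mul_pow, hsn, one_mul, h_pow']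
  have hfix : ∀ a : G, (s * S.h 1 d) * a = a * (s * S.h 1 d) → S.h 1 (d ^ n) * a = a * S.h 1 (d ^ n) := by
    intro a ha
    rw [← hxn]
    have : Commute (s * S.h 1 d) a := ha
    exact this.pow_left n
  have hT : S.h 1 d ∈ S.T := S.mem_T.2 ⟨_, _, rfl⟩
  have hn1 : ∀ a ∈ J S.XZ 1 7, (s * S.h 1 d) * a * (s * S.h 1 d)⁻¹ ∈ J S.XZ 1 7 := by
    intro a ha
    have e : (s * S.h 1 d) * a * (s * S.h 1 d)⁻¹ = s * (S.h 1 d * a * (S.h 1 d)⁻¹) * s⁻¹ := by group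
    rw [e]
    exact LL_conj17 hs (S.T_conj_J hT ha)
  have hn9 : ∀ a ∈ J S.XZ 9 15, (s * S.h 1 d) * a * (s * S.h 1 d)⁻¹ ∈ J S.XZ 9 15 := by
    intro a ha
    have e : (s * S.h 1 d) * a * (s * S.h 1 d)⁻¹ = s * (S.h 1 d * a * (S.h 1 d)⁻¹) * s⁻¹ := by group
    rw [e]
    exact LL_conj915 hs (S.T_conj_J hT ha)
  obtain ⟨v, hv, l, hl, u, hu, k, hk⟩ := gd (S := S) hg (d * d)
  obtain ⟨a, ha, b, hb, rfl⟩ := hcov l hl
  have ca := h_comm_LL d ha
  have cb := h_comm_LL d hb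
  set z := S.h 1 d with hz
  have hzz : S.h 1 (d * d) = z * z := by rw [hz, S.h_mul, one_mul]
  rw [hzz] at hk
  -- the two factors
  have hv' : a⁻¹ * v * a ∈ J S.XZ 9 15 := by
    have := LL_conj915 (inv_mem ha) hv
    rwa [inv_inv] at this
  have hu' : b⁻¹ * u * b ∈ J S.XZ 1 7 := by
    have := LL_conj17 (inv_mem hb) hu
    rwa [inv_inv] at this
  obtain ⟨p, -, hp⟩ := conj_of_fpf (A := J S.XZ 9 15) hn9 (fun y hy h => fix915 hd hy (hfix y h)) hv'
  obtain ⟨q, -, hq⟩ := conj_of_fpf' (A := J S.XZ 1 7) hn1 (fun y hy h => fix17 hd hy (hfix y h)) hu'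
  have e1 : v * (a * s * a⁻¹ * (b * s * b⁻¹) * (z * z)) * u =
      (a * (a⁻¹ * v * a * (s * z)) * a⁻¹) * (b * (s * z * (b⁻¹ * u * b)) * b⁻¹) := by
    have c1 : Commute z a := ca
    have c2 : Commute z b := cb
    have c3 : Commute z s := hc
    have c4 : z * (a⁻¹ * b * s * b⁻¹) = (a⁻¹ * b * s * b⁻¹) * z :=
      (((c1.inv_right.mul_right c2).mul_right c3).mul_right c2.inv_right).eq
    have c5 : z * b⁻¹ = b⁻¹ * z := c2.inv_right.eq
    have c6 : z * z * u = z * (z * u) := by group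
    calc v * (a * s * a⁻¹ * (b * s * b⁻¹) * (z * z)) * u = v * a * s * ((a⁻¹ * b * s * b⁻¹) * z) * z * u := by group
      _ = v * a * s * (z * (a⁻¹ * b * s * b⁻¹)) * z * u := by rw [c4]
      _ = v * a * (s * z) * a⁻¹ * b * s * (b⁻¹ * z) * u := by group
      _ = v * a * (s * z) * a⁻¹ * b * s * (z * b⁻¹) * u := by rw [c5]
      _ = _ := by group
  rw [e1, hp, hq] at hk
  refine ⟨k⁻¹ * a * p, k⁻¹ * b * q, ?_⟩
  have e2 : g = k⁻¹ * (k * g * k⁻¹) * k := by group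
  rw [e2, hk]
  group

end Cfsg.Agent.H84.GaussTwF4
end

-- part: H84/SzLevi
section
/-!
# The Levi factor `⟨X_0, X_8⟩` of `²F₄(q)` is a Suzuki group; elements of order five
-/

set_option autoImplicit false
set_option linter.unusedSectionVars false

namespace Cfsg.Agent.H84.SzLevi

open Cfsg.Agent.H67.RankOneId Cfsg.Agent.H67.RankOneId.RkOne Cfsg.Agent.H67.Cross Cfsg.Agent.LieRecognition.RankOneAbstract Cfsg.Agent.SuzukiRankOne.PSUModel
open Cfsg MulAction Subgroup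
open scoped commutatorElement Pointwise

universe u v

variable {P : Type v} [Group P] [Finite P] {A T : Subgroup P} {w : P}

/-- The core-free case, `|A| = q ^ 2`. -/
theorem suz_faithful (D : RkOne A T w) (hcore : ∀ g : P, (∀ k : P, k⁻¹ * g * k ∈ A ⊔ T) → g = 1) {k : ℕ} (hk : 2 ≤ k)
    (hq : ninv A + 1 = 2 ^ k) (hi : Nat.card A = (2 ^ k) ^ 2) : Lie.IsoSuzuki P := by
  have hf : FaithfulSMul P (P ⧸ (A ⊔ T)) := faithful_of_core (A ⊔ T) hcore
  have hS := D.setup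
  have h2 := D.inv'
  have htop : Cfsg.Agent.SuzukiRankOne.Reduction.invClosure P = ⊤ := by
    refine D.gen _ ?_ ?_
    · exact Cfsg.Agent.SuzukiRankOne.Reduction.Q_le_invClosure hS h2
    · intro a ha
      have h1 := Cfsg.Agent.SuzukiRankOne.Reduction.t_mem_invClosure hS
      exact mul_mem (mul_mem h1 (Cfsg.Agent.SuzukiRankOne.Reduction.Q_le_invClosure hS h2 ha)) h1
  have hsimp : IsSimpleGroup P :=
    Cfsg.Agent.SuzukiRankOne.Reduction.isSimpleGroup_of_invClosure_eq_top hS h2 htop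
  have hq' : Nat.card (involutionsIn (stabilizer P (QuotientGroup.mk 1 : P ⧸ (A ⊔ T)) : Set P)) + 1 = 2 ^ k := by
    rw [D.inv_card, hq]
  rcases AschCrit.RankOneCases.type_cases hS h2 with ⟨-, h, -⟩ | ⟨-, -, h⟩ | ⟨h, -⟩
  · exfalso
    rw [hq', hi] at h
    have := AschCrit.RankOneTypes.pow_two_inj hk (h.trans (pow_one _).symm)
    omega
  · exact h
  · exfalso
    rw [hq', hi] at h
    have := AschCrit.RankOneTypes.pow_two_inj hk h
    omega

/-- **Rank one groups with `|A| = q ^ 2` are Suzuki groups.** -/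
theorem isoSuzuki (D : RkOne A T w) {k : ℕ} (hk : 2 ≤ k) (hq : ninv A + 1 = 2 ^ k) (hi : Nat.card A = (2 ^ k) ^ 2) :
    Lie.IsoSuzuki P := by
  have D' := D.quot
  have hcardA : Nat.card ↥(A.map (pr A T)) = Nat.card A :=
    Nat.card_congr (Equiv.ofBijective (fun a : A => (⟨pr A T a, ⟨a, a.2, rfl⟩⟩ : ↥(A.map (pr A T))))
      ⟨fun a b h => Subtype.ext (D.pr_inj a.2 b.2 (congrArg Subtype.val h)), by
        rintro ⟨_, ⟨a, ha, rfl⟩⟩
        exact ⟨⟨a, ha⟩, rfl⟩⟩) |>.symm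
  have hninv : ninv (A.map (pr A T)) = ninv A := by
    refine (Nat.card_congr (Equiv.ofBijective (fun a : {x : P // x ∈ A ∧ x ≠ 1 ∧ x * x = 1} =>
      (⟨pr A T a, ⟨a, a.2.1, rfl⟩, fun h => a.2.2.1 (D.pr_inj a.2.1 (one_mem _) (by rw [h, map_one])),
        by rw [← map_mul, a.2.2.2, map_one]⟩ :
        {x : QQ A T // x ∈ A.map (pr A T) ∧ x ≠ 1 ∧ x * x = 1})) ⟨?_, ?_⟩)).symm
    · intro a b h
      exact Subtype.ext (D.pr_inj a.2.1 b.2.1 (congrArg Subtype.val h))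
    · rintro ⟨_, ⟨a, ha, rfl⟩, h1, h2⟩
      refine ⟨⟨a, ha, fun h => h1 (by rw [h, map_one]), ?_⟩, rfl⟩
      exact D.pr_inj (mul_mem ha ha) (one_mem _) (by rw [map_mul, h2, map_one])
  have hcore : ∀ g : QQ A T, (∀ k : QQ A T, k⁻¹ * g * k ∈ A.map (pr A T) ⊔ T.map (pr A T)) → g = 1 := by
    intro g hg
    refine core_quot (g := g) fun k => ?_
    rw [Subgroup.map_sup]
    exact hg k
  have hcard2 : Nat.card ↥(A.map (pr A T)) = (2 ^ k) ^ 2 := by rw [hcardA, hi]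
  have hn2 : ninv (A.map (pr A T)) + 1 = 2 ^ k := by rw [hninv, hq]
  obtain ⟨h1, h2⟩ := D'.main_faithful hcore hk hn2 hcard2 le_rfl
  have hsuz := suz_faithful D' hcore hk hn2 hcard2
  -- the core is trivial
  have hgen : Subgroup.closure {x : P | ∃ k : ℕ, x ^ 2 ^ k = 1} = ⊤ := by
    refine D.gen _ ?_ ?_
    · intro a ha
      obtain ⟨k, hk⟩ := D.pA ⟨a, ha⟩
      exact Subgroup.subset_closure ⟨k, congrArg Subtype.val hk⟩
    · intro a ha
      obtain ⟨k, hk⟩ := D.pA ⟨a, ha⟩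
      refine Subgroup.subset_closure ⟨k, ?_⟩
      have h3 : a ^ 2 ^ k = 1 := congrArg Subtype.val hk
      have e : w * a * w = w * a * w⁻¹ := by rw [D.w_inv]
      rw [e, conj_pow, h3]
      group
  have hK : KK A T = ⊥ := by
    rw [← Subgroup.card_eq_one]
    by_contra hne
    obtain ⟨r, hr, hdvd⟩ := Nat.exists_prime_and_dvd hne
    have hr2 : r ≠ 2 := by
      rintro rfl
      have h3 : Nat.card (KK A T) ∣ Nat.card T := Subgroup.card_dvd_of_le D.KK_le_T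
      exact (Nat.not_even_iff_odd.2 D.T_odd) (even_iff_two_dvd.2 (hdvd.trans h3))
    refine noCE_not_dvd_card_ker hr (h1 r hr hr2) hgen (f := pr A T) pr_surj ?_ ?_
    · rw [ker_pr]; exact D.KK_central
    · rw [ker_pr]; exact hdvd
  have hinj : Function.Injective (pr A T) := by
    rw [← MonoidHom.ker_eq_bot_iff, ker_pr, hK]
  let e : P ≃* QQ A T := MulEquiv.ofBijective (pr A T) ⟨hinj, pr_surj⟩
  obtain ⟨F, _, _, m, hm, hF, ⟨f⟩⟩ := hsuz
  exact ⟨F, _, _, m, hm, hF, ⟨e.trans f⟩⟩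

end Cfsg.Agent.H84.SzLevi

namespace Cfsg.Agent.H84.SzLevi

open Cfsg.Agent.LieRecognition.SzMatrix
open Cfsg

theorem five_dvd (m : ℕ) : 5 ∣ (2 ^ (2 * m + 1)) ^ 2 + 1 := by
  induction m with
  | zero => norm_num
  | succ m ih =>
    have e : (2 ^ (2 * (m + 1) + 1)) ^ 2 + 1 = 16 * ((2 ^ (2 * m + 1)) ^ 2 + 1) - 15 := by
      have : (2 ^ (2 * (m + 1) + 1)) ^ 2 = 16 * (2 ^ (2 * m + 1)) ^ 2 := by ring
      omega
    omega

theorem four_eq {H : Type*} [Group H] (x : H) : x ^ 4 = (x * x) * (x * x) := by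
  rw [← pow_two, ← pow_two, ← pow_mul]

/-- In a Suzuki group there is an element `s` of order five such that each element is a product of two conjugates
of `s`. -/
theorem sz_cover {P : Type*} [Group P] (h : Lie.IsoSuzuki P) : ∃ s : P, s ^ 5 = 1 ∧
    ∀ l : P, ∃ a b : P, l = (a * s * a⁻¹) * (b * s * b⁻¹) := by
  obtain ⟨F, _, _, m, hm, hF, ⟨f⟩⟩ := h
  have hfin : Finite ↥(Cfsg.Lie.Sz F (2 ^ (m + 1))) := inferInstance
  have h5 : Fact (Nat.Prime 5) := ⟨by norm_num⟩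
  have hcard := (Cfsg.Agent.S1163.result hm hF).1
  have hdvd : 5 ∣ Nat.card ↥(Cfsg.Lie.Sz F (2 ^ (m + 1))) := by
    rw [hcard]; exact dvd_mul_of_dvd_right (five_dvd m) _
  obtain ⟨x, hx⟩ := exists_prime_orderOf_dvd_card' 5 hdvd
  have key : ∀ l : ↥(Cfsg.Lie.Sz F (2 ^ (m + 1))), ∃ a b, l = (a * x * a⁻¹) * (b * x * b⁻¹) := by
    intro l
    by_cases hl : l = 1
    · have hx1 : x ≠ 1 := by
        rintro rfl
        rw [orderOf_one] at hx
        omega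
      rcases Cfsg.Agent.H147.Sz.real hm hF x hx1 with ⟨-, i, -, hi, h⟩ | ⟨a, b, h⟩
      · refine ⟨1, i, ?_⟩
        have hii : i⁻¹ = i := inv_eq_of_mul_eq_one_left hi
        rw [hl, hii, h]; group
      · exfalso
        obtain ⟨c, hc⟩ := isConj_iff.1 h
        have h4 : (good hF).u a b ^ 4 = 1 := by
          rw [four_eq, Cfsg.Agent.H147.Sz.u_sq, Cfsg.Agent.H147.Sz.u_sq, zero_mul, (good hF).u_zero]
        rw [← hc, conj_pow] at h4
        have h5 : x ^ 4 = 1 := by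
          have e : x ^ 4 = c⁻¹ * (c * x ^ 4 * c⁻¹) * c := by group
          rw [e, h4]; group
        have h6 := orderOf_dvd_of_pow_eq_one h5
        rw [hx] at h6
        omega
    · exact Cfsg.Agent.S2457.result m hm hF x (by rw [hx]; norm_num) l hl
  refine ⟨f.symm x, ?_, ?_⟩
  · rw [← map_pow, ← hx, pow_orderOf_eq_one, map_one]
  · intro l
    obtain ⟨a, b, hab⟩ := key (f l)
    refine ⟨f.symm a, f.symm b, ?_⟩
    have := congrArg f.symm hab
    simpa using this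

end Cfsg.Agent.H84.SzLevi

namespace Cfsg.Agent.H84.GaussTwF4

open Cfsg.Agent.SplitTwo Cfsg.Agent.SplitTwo.ZS Cfsg.Agent.TitsThree.RankTwoZ
open Cfsg.Agent.KFacts.TwF4 Cfsg.Agent.KFacts.TwF4.Arc Cfsg.Agent.KFacts.TwF4.Inv
open Cfsg.Agent.H84.TwF4Two Cfsg.Agent.H67.TwFFourOdd Cfsg.Agent.H67.RankTwo Cfsg.Agent.H67.RankOneId

universe u

variable {F : Type*} [Field F] {σ : F →+* F} {G : Type u} [Group G] (S : Full σ G) [Finite F] [Finite G]

theorem LL_iso {k : ℕ} (hk : 2 ≤ k) (hF : Nat.card F = 2 ^ k) : Cfsg.Lie.IsoSuzuki ↥(LJ (cc S).X) := by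
  have h4 : 4 ≤ Nat.card F := by
    rw [hF]
    calc 4 = 2 ^ 2 := rfl
      _ ≤ 2 ^ k := Nat.pow_le_pow_right (by norm_num) hk
  have hTo : Odd (Nat.card ↥(torus (cc S).X)) := by
    rw [card_torus, hF]
    exact (Nat.Even.sub_odd Nat.one_le_two_pow ((Nat.even_pow' (by omega)).mpr even_two) odd_one).pow
  have D := rkOne_of (cc S).X (i := (8 : ℕ)) (j := 0) (e := (8 : ℕ)) (by ring)
    (L := LJ (cc S).X) le_sup_left le_rfl (cc S).muJ (n2_mem S) S.n2_sq (maps_n2 S)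
    (pX S (8 : ℕ)) hTo (by
      have h1 := opp_inf S.R 0
      rw [zero_add, inf_comm] at h1
      exact h1) (by
      obtain ⟨x, hx0, hx1⟩ := exists_ne h4
      refine ⟨_, (memX8 S).2 ⟨0, 1, rfl⟩, _, (memX8 S).2 ⟨0, x, rfl⟩, ?_, ?_, ?_, ?_, ?_, ?_⟩
      · exact fun h => one_ne_zero (S.injE 4 _ _ _ _ (h.trans (e_zero S 4).symm)).2
      · exact fun h => hx0 (S.injE 4 _ _ _ _ (h.trans (e_zero S 4).symm)).2
      · exact fun h => hx1 (S.injE 4 _ _ _ _ h).2.symm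
      · rw [S.e_mul, zero_mul, add_zero, add_zero, add_self S, e_zero]
      · rw [S.e_mul, zero_mul, add_zero, add_zero, add_self S, e_zero]
      · rw [S.e_mul, S.e_mul, zero_mul, add_comm 1 x])
  exact Cfsg.Agent.H84.SzLevi.isoSuzuki D (k := k) hk
    (by rw [ninv_subgroupOf (H := (cc S).X (8 : ℕ)) (L := LJ (cc S).X) le_sup_left, ninv_X8, hF])
    (by
      have h0 : (cc S).X (8 : ℕ) ⊓ LJ (cc S).X = (cc S).X (8 : ℕ) := inf_eq_left.2 le_sup_left
      rw [card_subgroupOf_eq, h0, card_X8, hF])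

theorem LJ_eq : LJ (cc S).X = LL S := by
  unfold LJ LL
  have h8 : (cc S).X ((8 : ℕ) : ZMod (2 * 8)) = S.XZ 8 := by
    show S.R.X _ = S.R.X _
    rfl
  have h0 : (cc S).X 0 = S.XZ 0 := by
    show S.R.X _ = S.R.X _
    rw [Int.cast_zero]
  rw [h8, h0]

theorem LL_cover {k : ℕ} (hk : 2 ≤ k) (hF : Nat.card F = 2 ^ k) : ∃ s ∈ LL S, s ^ 5 = 1 ∧
    ∀ l ∈ LL S, ∃ a ∈ LL S, ∃ b ∈ LL S, l = (a * s * a⁻¹) * (b * s * b⁻¹) := by
  have h := LL_iso S hk hF
  rw [LJ_eq] at h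
  obtain ⟨s, hs, hc⟩ := Cfsg.Agent.H84.SzLevi.sz_cover h
  refine ⟨s, s.2, congrArg Subtype.val hs, fun l hl => ?_⟩
  obtain ⟨a, b, hab⟩ := hc ⟨l, hl⟩
  exact ⟨a, a.2, b, b.2, congrArg Subtype.val hab⟩

end Cfsg.Agent.H84.GaussTwF4
end
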