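import Cfsg.Agent.KFacts.TwF4.SylU
import Cfsg.Agent.KFacts.TwF4.Rot
set_option linter.all false

/-!
# The involutions of `²F₄(q)` when the torus is trivial (`q = 2`)

`S : Full σ G` with trivial torus and `U ∩ V = 1` (`U = J 1 8`, `V = J (-7) 0`): every involution which is conjugate
into `U` is conjugate to `o 0 1` or to `e 0 0 1`.  The proof moves the involution by conjugation into cells
`U n U` of increasing length.
-/

set_option autoImplicit false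
set_option linter.unusedSectionVars false

namespace Cfsg.Agent.H84.TwF4Two

open Cfsg.Agent.SplitTwo Cfsg.Agent.SplitTwo.ZS Cfsg.Agent.TitsThree.RankTwoZ
open Cfsg.Agent.KFacts.TwF4 Cfsg.Agent.KFacts.TwF4.Arc Cfsg.Agent.KFacts.TwF4.Inv

universe u

variable {F : Type*} [Field F] {σ : F →+* F} {G : Type u} [Group G] (S : Full σ G)

/-! ### reflections and rotations on the `ℤ`-indexed family -/

theorem XZ_per (k : ℤ) : S.XZ (k + 16) = S.XZ k := by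
  have := S.zsys8.per k
  rwa [show k + 2 * 8 = k + 16 by ring] at this

theorem J_per (a b : ℤ) : J S.XZ (a + 16) (b + 16) = J S.XZ a b := by
  apply le_antisymm
  · refine J_le fun k h1 h2 => ?_
    have := XZ_per S (k - 16)
    rw [show k - 16 + 16 = k by ring] at this
    rw [this]
    exact X_le_J (by omega) (by omega)
  · refine J_le fun k h1 h2 => ?_
    rw [← XZ_per S k]
    exact X_le_J (by omega) (by omega)

variable {S}

theorem refl_per {c : ℤ} {n : G} (h : Refl S.XZ c n) : Refl S.XZ (c + 16) n := by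
  intro j x
  rw [show c + 16 - j = (c - j) + 16 by ring, XZ_per]
  exact h j x

theorem refl_per' {c : ℤ} {n : G} (h : Refl S.XZ (c + 16) n) : Refl S.XZ c n := by
  intro j x
  have := h j x
  rwa [show c + 16 - j = (c - j) + 16 by ring, XZ_per] at this

/-- `w` acts as `j ↦ c + j` -/
def Rota (S : Full σ G) (c : ℤ) (n : G) : Prop := ∀ j x, x ∈ S.XZ j ↔ n * x * n⁻¹ ∈ S.XZ (c + j)

theorem refl_mul {c d : ℤ} {m n : G} (h : Refl S.XZ c m) (h' : Refl S.XZ d n) : Rota S (c - d) (m * n) := by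
  intro j x
  rw [h' j x, h (d - j) (n * x * n⁻¹), show c - (d - j) = c - d + j by ring,
    show m * (n * x * n⁻¹) * m⁻¹ = m * n * x * (m * n)⁻¹ by group]

theorem refl_conj {c d : ℤ} {m n : G} (h : Refl S.XZ c m) (h' : Refl S.XZ d n) :
    Refl S.XZ (2 * d - c) (n⁻¹ * m * n) := by
  intro j x
  rw [h' j x, h (d - j) (n * x * n⁻¹), h'.inv (c - (d - j)) _, show d - (c - (d - j)) = 2 * d - c - j by ring,
    show n⁻¹ * (m * (n * x * n⁻¹) * m⁻¹) * n⁻¹⁻¹ = n⁻¹ * m * n * x * (n⁻¹ * m * n)⁻¹ by group]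

theorem Rota.mem {c : ℤ} {n : G} (h : Rota S c n) {j : ℤ} {x : G} (hx : x ∈ S.XZ j) : n * x * n⁻¹ ∈ S.XZ (c + j) :=
  (h j x).1 hx

theorem Rota.mem_J {c : ℤ} {n : G} (h : Rota S c n) {a b a' b' : ℤ} {x : G} (hx : x ∈ J S.XZ a b) (ha : a' ≤ c + a)
    (hb : c + b ≤ b') : n * x * n⁻¹ ∈ J S.XZ a' b' := by
  have : J S.XZ a b ≤ (J S.XZ a' b').comap (MulAut.conj n).toMonoidHom := by
    refine J_le fun k h1 h2 y hy => ?_
    exact ZS.mem_J (h.mem hy) (by omega) (by omega)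
  exact this hx

/-- an element acting trivially on the indices lies in the torus -/
theorem mem_T_of_rota {n : G} (h : Rota S 0 n) : n ∈ S.T := by
  show Maps S.R.X n id
  intro k x
  have hk : (((k.val : ℕ) : ℤ) : ZMod (2 * 8)) = k := by rw [Int.cast_natCast]; exact ZMod.natCast_zmod_val _
  have h1 := h (k.val : ℤ) x
  rw [zero_add] at h1
  have h8 : ∀ x, x ∈ S.XZ (k.val : ℤ) ↔ x ∈ S.R.X k := by
    intro x
    show x ∈ S.R.X _ ↔ _
    rw [hk]
  rw [h8, h8] at h1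
  exact h1.symm

theorem rota_per {c : ℤ} {n : G} (h : Rota S c n) : Rota S (c + 16) n := by
  intro j x
  rw [show c + 16 + j = (c + j) + 16 by ring, XZ_per]
  exact h j x

theorem rota_mul {c d : ℤ} {m n : G} (h : Rota S c m) (h' : Rota S d n) : Rota S (c + d) (m * n) := by
  intro j x
  rw [h' j x, h (d + j) (n * x * n⁻¹), show c + (d + j) = c + d + j by ring,
    show m * (n * x * n⁻¹) * m⁻¹ = m * n * x * (m * n)⁻¹ by group]

theorem rota_inv {c : ℤ} {n : G} (h : Rota S c n) : Rota S (-c) n⁻¹ := by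
  intro j x
  rw [h (-c + j) (n⁻¹ * x * n⁻¹⁻¹), show c + (-c + j) = j by ring,
    show n * (n⁻¹ * x * n⁻¹⁻¹) * n⁻¹ = x by group]

theorem cj_swap {a n b : G} : Cj (a * n * b) (n * (b * a)) := ⟨a⁻¹, by group⟩

/-! ### moving into longer cells -/

/-- conjugate to an element of the cell of the reflection `j ↦ c - j` -/
def Cell (S : Full σ G) (c : ℤ) (t : G) : Prop := ∃ n, Refl S.XZ c n ∧ ∃ u ∈ J S.XZ 1 8, Cj t (n * u)

theorem cell_of {t a n b : G} {c : ℤ} (hn : Refl S.XZ c n) (ha : a ∈ J S.XZ 1 8) (hb : b ∈ J S.XZ 1 8)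
    (h : Cj t (a * n * b)) : Cell S c t := ⟨n, hn, b * a, mul_mem hb ha, h.trans cj_swap⟩

/-- conjugation with `n2` -/
theorem cell_n2 {t : G} {c : ℤ} (h : Cell S c t) {k : ℤ} (hk : k = 16 - c) (h1 : 1 ≤ k) (h2 : k ≤ 8) :
    Cell S k t := by
  obtain ⟨n, hn, u, hu, ht⟩ := h
  obtain ⟨x, hx, u', hu', rfl⟩ := S.zsys8.split_rl (a := 1) (b := 8) (by norm_num) (by norm_num) hu
  have hr := S.n2_refl
  have h3 : S.n2⁻¹ * (n * x * n⁻¹) * S.n2 ∈ S.XZ k := hr.mem_inv (hn.mem hx) (by omega)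
  have h4 : S.n2⁻¹ * u' * S.n2 ∈ J S.XZ 1 7 := hr.mem_J_inv hu' (by norm_num) (by norm_num)
  have h5 : Refl S.XZ (2 * 8 - c) (S.n2⁻¹ * n * S.n2) := refl_conj hn hr
  refine cell_of (n := S.n2⁻¹ * n * S.n2) (by rw [hk]; exact h5) (mem_J h3 h1 h2) (J_mono le_rfl (by norm_num) h4) ?_
  exact ht.trans ⟨S.n2⁻¹, by group⟩

/-- conjugation with `n1` -/
theorem cell_n1 {t : G} {c : ℤ} (h : Cell S c t) {k : ℤ} (hk : k = 11 - c) (h1 : 1 ≤ k) (h2 : k ≤ 8) {d : ℤ}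
    (hd : d = 20 - c) : Cell S d t := by
  obtain ⟨n, hn, u, hu, ht⟩ := h
  obtain ⟨x, hx, u', hu', rfl⟩ := S.zsys8.split_ll (a := 1) (b := 8) (by norm_num) (by norm_num) hu
  have hr := S.n1_refl
  have h3 : S.n1⁻¹ * (n * x * n⁻¹) * S.n1 ∈ S.XZ k := hr.mem_inv (hn.mem hx) (by omega)
  have h4 : S.n1⁻¹ * u' * S.n1 ∈ J S.XZ 2 8 := hr.mem_J_inv hu' (by norm_num) (by norm_num)
  have h5 : Refl S.XZ (2 * 10 - c) (S.n1⁻¹ * n * S.n1) := refl_conj hn hr
  refine cell_of (n := S.n1⁻¹ * n * S.n1) (by rw [hd]; exact h5) (mem_J h3 h1 h2) (J_mono (by norm_num) le_rfl h4) ?_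
  exact ht.trans ⟨S.n1⁻¹, by group⟩

/-- an element of `U` outside `J 2 8` -/
theorem cell_start1 {t u : G} (hu : u ∈ J S.XZ 1 8) (hu2 : u ∉ J S.XZ 2 8) (ht : Cj t u) : Cell S 10 t := by
  obtain ⟨x, hx, u', hu', rfl⟩ := S.zsys8.split_ll (a := 1) (b := 8) (by norm_num) (by norm_num) hu
  have hx1 : x ≠ 1 := by
    rintro rfl
    rw [one_mul] at hu2
    exact hu2 hu'
  have hr := S.n1_refl
  have h3 : S.n1⁻¹ * x * S.n1 ∈ S.XZ 9 := hr.mem_inv hx (by norm_num)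
  have h4 : S.n1⁻¹ * u' * S.n1 ∈ J S.XZ 2 8 := hr.mem_J_inv hu' (by norm_num) (by norm_num)
  have h5 : S.n1⁻¹ * x * S.n1 ≠ 1 := by
    intro h
    apply hx1
    have e : x = S.n1 * (S.n1⁻¹ * x * S.n1) * S.n1⁻¹ := by group
    rw [e, h]; group
  obtain ⟨v, hv, v', hv', hm⟩ := S.zsys8.mu 9 _ h3 h5
  rw [show (9 : ℤ) - 8 = 1 by norm_num] at hv hv'
  refine cell_of (n := v * (S.n1⁻¹ * x * S.n1) * v') (a := v⁻¹) (b := v'⁻¹ * (S.n1⁻¹ * u' * S.n1))
    (by rw [show (10 : ℤ) = 2 * 9 - 8 by norm_num]; exact hm) (inv_mem (mem_J hv le_rfl (by norm_num)))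
    (mul_mem (inv_mem (mem_J hv' le_rfl (by norm_num))) (J_mono (by norm_num) le_rfl h4)) ?_
  exact ht.trans ⟨S.n1⁻¹, by group⟩

/-- an element of `U` outside `J 1 7` -/
theorem cell_start2 {t u : G} (hu : u ∈ J S.XZ 1 8) (hu2 : u ∉ J S.XZ 1 7) (ht : Cj t u) : Cell S 8 t := by
  obtain ⟨x, hx, u', hu', rfl⟩ := S.zsys8.split_rl (a := 1) (b := 8) (by norm_num) (by norm_num) hu
  have hx1 : x ≠ 1 := by
    rintro rfl
    rw [one_mul] at hu2
    exact hu2 hu'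
  have hr := S.n2_refl
  have h3 : S.n2⁻¹ * x * S.n2 ∈ S.XZ 0 := hr.mem_inv hx (by norm_num)
  have h4 : S.n2⁻¹ * u' * S.n2 ∈ J S.XZ 1 7 := hr.mem_J_inv hu' (by norm_num) (by norm_num)
  have h5 : S.n2⁻¹ * x * S.n2 ≠ 1 := by
    intro h
    apply hx1
    have e : x = S.n2 * (S.n2⁻¹ * x * S.n2) * S.n2⁻¹ := by group
    rw [e, h]; group
  obtain ⟨v, hv, v', hv', hm⟩ := S.zsys8.mu 0 _ h3 h5
  have e8 : S.XZ (0 - 8) = S.XZ 8 := by
    have := XZ_per S (0 - 8)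
    rw [show (0 : ℤ) - 8 + 16 = 8 by norm_num] at this
    exact this.symm
  rw [e8] at hv hv'
  have hm' : Refl S.XZ 8 (v * (S.n2⁻¹ * x * S.n2) * v') := by
    have := refl_per hm
    rwa [show 2 * (0 : ℤ) - 8 + 16 = 8 by norm_num] at this
  refine cell_of (n := v * (S.n2⁻¹ * x * S.n2) * v') (a := v⁻¹) (b := v'⁻¹ * (S.n2⁻¹ * u' * S.n2)) hm'
    (inv_mem (mem_J hv (by norm_num) le_rfl))
    (mul_mem (inv_mem (mem_J hv' (by norm_num) le_rfl)) (J_mono le_rfl (by norm_num) h4)) ?_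
  exact ht.trans ⟨S.n2⁻¹, by group⟩

/-- every non-trivial element of `U` is conjugate into the cell of a reflection of length seven -/
theorem cell_long {t : G} (ht1 : t ≠ 1) (hU : ∃ k : G, k * t * k⁻¹ ∈ J S.XZ 1 8) : Cell S 2 t ∨ Cell S 16 t := by
  obtain ⟨k, hkU, hk | hk⟩ := exists_outside S ht1 hU
  · left
    have h1 := cell_start1 hkU hk ⟨k, rfl⟩
    have h2 : Cell S 6 t := cell_n2 h1 (by norm_num) (by norm_num) (by norm_num)
    have h3 : Cell S 14 t := cell_n1 h2 (k := 5) (by norm_num) (by norm_num) (by norm_num) (by norm_num)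
    exact cell_n2 h3 (by norm_num) (by norm_num) (by norm_num)
  · right
    have h1 := cell_start2 hkU hk ⟨k, rfl⟩
    have h2 : Cell S 12 t := cell_n1 h1 (k := 3) (by norm_num) (by norm_num) (by norm_num) (by norm_num)
    have h3 : Cell S 4 t := cell_n2 h2 (by norm_num) (by norm_num) (by norm_num)
    exact cell_n1 h3 (k := 7) (by norm_num) (by norm_num) (by norm_num) (by norm_num)

/-! ### the end -/

theorem cj_sq {t s : G} (h : Cj t s) (ht : t * t = 1) : s * s = 1 := by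
  obtain ⟨k, rfl⟩ := h
  calc k * t * k⁻¹ * (k * t * k⁻¹) = k * (t * t) * k⁻¹ := by group
    _ = 1 := by rw [ht]; group

/-- the trivial torus and `U ∩ V = 1` -/
structure Small (S : Full σ G) : Prop where
  hT : ∀ g ∈ S.T, g = 1
  hL : ∀ y ∈ J S.XZ (-7) 0, y ∈ J S.XZ 1 8 → y = 1

theorem refl_uniq (H : Small S) {c : ℤ} {n n' : G} (h : Refl S.XZ c n) (h' : Refl S.XZ c n') : n = n' := by
  have h1 := refl_mul h h'.inv
  rw [sub_self] at h1
  exact mul_inv_eq_one.1 (H.hT _ (mem_T_of_rota h1))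

theorem rota_uniq (H : Small S) {c : ℤ} {n n' : G} (h : Rota S c n) (h' : Rota S c n') : n = n' := by
  have h1 := rota_mul h (rota_inv h')
  rw [add_neg_cancel] at h1
  exact mul_inv_eq_one.1 (H.hT _ (mem_T_of_rota h1))

theorem refl_sq (H : Small S) {c : ℤ} {n : G} (h : Refl S.XZ c n) : n * n = 1 := by
  have h1 := refl_mul h h
  rw [sub_self] at h1
  exact H.hT _ (mem_T_of_rota h1)

theorem end_rot (H : Small S) {t w u : G} (hw : Rota S (-8) w) (hu : u ∈ J S.XZ 1 8) (ht : t * t = 1)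
    (h : Cj t (w * u)) : Cj t w := by
  have h1 := cj_sq h ht
  have hww : w * w = 1 := by
    have h2 := rota_per (rota_mul hw hw)
    rw [show (-8 : ℤ) + -8 + 16 = 0 by norm_num] at h2
    exact H.hT _ (mem_T_of_rota h2)
  have hwi : w⁻¹ = w := inv_eq_of_mul_eq_one_left hww
  have h2 : w * u * w⁻¹ = u⁻¹ := by
    rw [hwi]
    calc w * u * w = (w * u * (w * u)) * u⁻¹ := by group
      _ = u⁻¹ := by rw [h1, one_mul]
  have h3 : w * u * w⁻¹ ∈ J S.XZ (-7) 0 := hw.mem_J hu (by norm_num) (by norm_num)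
  have h4 : w * u * w⁻¹ = 1 := H.hL _ h3 (by rw [h2]; exact inv_mem hu)
  have h5 : u = 1 := by
    rw [h2] at h4
    exact inv_eq_one.1 h4
  rw [h5, mul_one] at h
  exact h

theorem end1 (H : Small S) {t : G} (ht : t * t = 1) (h : Cell S 2 t) :
    (∃ n, Refl S.XZ 2 n ∧ Cj t n) ∨ ∃ w, Rota S (-8) w ∧ Cj t w := by
  obtain ⟨n, hn, u, hu, hc⟩ := h
  have h1 := cj_sq hc ht
  have hnn := refl_sq H hn
  have hni : n⁻¹ = n := inv_eq_of_mul_eq_one_left hnn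
  obtain ⟨x, hx, u', hu', rfl⟩ := S.zsys8.split_ll (a := 1) (b := 8) (by norm_num) (by norm_num) hu
  have h2 : n * (x * u') * n⁻¹ = (x * u')⁻¹ := by
    rw [hni]
    calc n * (x * u') * n = (n * (x * u') * (n * (x * u'))) * (x * u')⁻¹ := by group
      _ = (x * u')⁻¹ := by rw [h1, one_mul]
  have hxn : n * x * n⁻¹ ∈ S.XZ 1 := hn.mem' hx (by norm_num)
  have h3 : n * u' * n⁻¹ ∈ J S.XZ (-7) 0 := hn.mem_J hu' (by norm_num) (by norm_num)
  have h4 : n * u' * n⁻¹ = 1 := by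
    refine H.hL _ h3 ?_
    have e : n * u' * n⁻¹ = (n * x * n⁻¹)⁻¹ * (n * (x * u') * n⁻¹) := by group
    rw [e, h2]
    exact mul_mem (inv_mem (mem_J hxn le_rfl (by norm_num))) (inv_mem hu)
  have h5 : u' = 1 := by
    have e : u' = n⁻¹ * (n * u' * n⁻¹) * n := by group
    rw [e, h4]; group
  rw [h5, mul_one] at hc h1 h2
  by_cases hall : ∀ y ∈ S.XZ 1, (n⁻¹ * y * n) * x * y⁻¹ = 1
  · left
    have hx1 : x = 1 := by
      have := hall 1 (one_mem _)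
      simpa using this
    rw [hx1, mul_one] at hc
    exact ⟨n, hn, hc⟩
  · right
    push Not at hall
    obtain ⟨y, hy, hy1⟩ := hall
    have hx' : (n⁻¹ * y * n) * x * y⁻¹ ∈ S.XZ 1 :=
      mul_mem (mul_mem (hn.mem_inv hy (by norm_num)) hx) (inv_mem hy)
    set x' := (n⁻¹ * y * n) * x * y⁻¹ with hx'def
    have hc2 : Cj t (n * x') := hc.trans ⟨y, by rw [hx'def]; group⟩
    have hr := S.n1_refl
    have h9 : S.n1⁻¹ * x' * S.n1 ∈ S.XZ 9 := hr.mem_inv hx' (by norm_num)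
    have h91 : S.n1⁻¹ * x' * S.n1 ≠ 1 := by
      intro h
      apply hy1
      have e : x' = S.n1 * (S.n1⁻¹ * x' * S.n1) * S.n1⁻¹ := by group
      rw [e, h]; group
    obtain ⟨v, hv, v', hv', hm⟩ := S.zsys8.mu 9 _ h9 h91
    rw [show (9 : ℤ) - 8 = 1 by norm_num] at hv hv'
    have hn' : Refl S.XZ 2 (S.n1⁻¹ * n * S.n1) := by
      have := refl_conj hn hr
      rw [show 2 * (10 : ℤ) - 2 = 2 + 16 by norm_num] at this
      exact refl_per' this
    set n' := S.n1⁻¹ * n * S.n1 with hn'def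
    set m := v * (S.n1⁻¹ * x' * S.n1) * v' with hmdef
    have hrot : Rota S (-8) (n' * m) := by
      have := refl_mul hn' hm
      rwa [show (2 : ℤ) - (2 * 9 - 8) = -8 by norm_num] at this
    have hvn : n' * v⁻¹ * n'⁻¹ ∈ S.XZ 1 := hn'.mem' (inv_mem hv) (by norm_num)
    have hc3 : Cj t ((n' * v⁻¹ * n'⁻¹) * (n' * m) * v'⁻¹) := by
      refine hc2.trans ⟨S.n1⁻¹, ?_⟩
      rw [hmdef, hn'def]; group
    refine ⟨n' * m, hrot, end_rot H hrot (u := v'⁻¹ * (n' * v⁻¹ * n'⁻¹)) ?_ ht (hc3.trans cj_swap)⟩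
    exact mul_mem (inv_mem (mem_J hv' le_rfl (by norm_num))) (mem_J hvn le_rfl (by norm_num))

theorem end2 (H : Small S) {t : G} (ht : t * t = 1) (h : Cell S 16 t) :
    (∃ n, Refl S.XZ 16 n ∧ Cj t n) ∨ ∃ w, Rota S (-8) w ∧ Cj t w := by
  obtain ⟨n, hn, u, hu, hc⟩ := h
  have h1 := cj_sq hc ht
  have hnn := refl_sq H hn
  have hni : n⁻¹ = n := inv_eq_of_mul_eq_one_left hnn
  obtain ⟨x, hx, u', hu', rfl⟩ := S.zsys8.split_rl (a := 1) (b := 8) (by norm_num) (by norm_num) hu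
  have h2 : n * (x * u') * n⁻¹ = (x * u')⁻¹ := by
    rw [hni]
    calc n * (x * u') * n = (n * (x * u') * (n * (x * u'))) * (x * u')⁻¹ := by group
      _ = (x * u')⁻¹ := by rw [h1, one_mul]
  have hxn : n * x * n⁻¹ ∈ S.XZ 8 := hn.mem' hx (by norm_num)
  have h3 : n * u' * n⁻¹ ∈ J S.XZ (-7) 0 := by
    have h3' : n * u' * n⁻¹ ∈ J S.XZ (-7 + 16) (0 + 16) := hn.mem_J hu' (by norm_num) (by norm_num)
    rwa [J_per] at h3'
  have h4 : n * u' * n⁻¹ = 1 := by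
    refine H.hL _ h3 ?_
    have e : n * u' * n⁻¹ = (n * x * n⁻¹)⁻¹ * (n * (x * u') * n⁻¹) := by group
    rw [e, h2]
    exact mul_mem (inv_mem (mem_J hxn (by norm_num) le_rfl)) (inv_mem hu)
  have h5 : u' = 1 := by
    have e : u' = n⁻¹ * (n * u' * n⁻¹) * n := by group
    rw [e, h4]; group
  rw [h5, mul_one] at hc h1 h2
  by_cases hall : ∀ y ∈ S.XZ 8, (n⁻¹ * y * n) * x * y⁻¹ = 1
  · left
    have hx1 : x = 1 := by
      have := hall 1 (one_mem _)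
      simpa using this
    rw [hx1, mul_one] at hc
    exact ⟨n, hn, hc⟩
  · right
    push Not at hall
    obtain ⟨y, hy, hy1⟩ := hall
    have hx' : (n⁻¹ * y * n) * x * y⁻¹ ∈ S.XZ 8 :=
      mul_mem (mul_mem (hn.mem_inv hy (by norm_num)) hx) (inv_mem hy)
    set x' := (n⁻¹ * y * n) * x * y⁻¹ with hx'def
    have hc2 : Cj t (n * x') := hc.trans ⟨y, by rw [hx'def]; group⟩
    have hr := S.n2_refl
    have h9 : S.n2⁻¹ * x' * S.n2 ∈ S.XZ 0 := hr.mem_inv hx' (by norm_num)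
    have h91 : S.n2⁻¹ * x' * S.n2 ≠ 1 := by
      intro h
      apply hy1
      have e : x' = S.n2 * (S.n2⁻¹ * x' * S.n2) * S.n2⁻¹ := by group
      rw [e, h]; group
    obtain ⟨v, hv, v', hv', hm⟩ := S.zsys8.mu 0 _ h9 h91
    have e8 : S.XZ (0 - 8) = S.XZ 8 := by
      have := XZ_per S (0 - 8)
      rw [show (0 : ℤ) - 8 + 16 = 8 by norm_num] at this
      exact this.symm
    rw [e8] at hv hv'
    have hn' : Refl S.XZ 0 (S.n2⁻¹ * n * S.n2) := by
      have := refl_conj hn hr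
      rwa [show 2 * (8 : ℤ) - 16 = 0 by norm_num] at this
    set n' := S.n2⁻¹ * n * S.n2 with hn'def
    set m := v * (S.n2⁻¹ * x' * S.n2) * v' with hmdef
    have hm' : Refl S.XZ 8 m := by
      have := refl_per hm
      rwa [show 2 * (0 : ℤ) - 8 + 16 = 8 by norm_num] at this
    have hrot : Rota S (-8) (n' * m) := by
      have := refl_mul hn' hm'
      rwa [show (0 : ℤ) - 8 = -8 by norm_num] at this
    have hvn : n' * v⁻¹ * n'⁻¹ ∈ S.XZ 8 := by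
      have h := hn'.mem (inv_mem hv)
      have e := XZ_per S (0 - 8)
      rw [show (0 : ℤ) - 8 + 16 = 8 by norm_num] at e
      rwa [← e] at h
    have hc3 : Cj t ((n' * v⁻¹ * n'⁻¹) * (n' * m) * v'⁻¹) := by
      refine hc2.trans ⟨S.n2⁻¹, ?_⟩
      rw [hmdef, hn'def]; group
    refine ⟨n' * m, hrot, end_rot H hrot (u := v'⁻¹ * (n' * v⁻¹ * n'⁻¹)) ?_ ht (hc3.trans cj_swap)⟩
    exact mul_mem (inv_mem (mem_J hv' (by norm_num) le_rfl)) (mem_J hvn (by norm_num) le_rfl)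

/-- conjugating a reflection with the rotation -/
theorem refl_rot {c : ℤ} {n : G} (h : Refl S.XZ c n) (k : ℤ) :
    Refl S.XZ (c + 4 * k) (S.rot ^ k * n * (S.rot ^ k)⁻¹) := by
  intro j x
  have h1 : x ∈ S.XZ j ↔ (S.rot ^ k)⁻¹ * x * S.rot ^ k ∈ S.XZ (j - 2 * k) := by
    have := S.rotk_X k (j - 2 * k) (x := (S.rot ^ k)⁻¹ * x * S.rot ^ k)
    rw [show S.rot ^ k * ((S.rot ^ k)⁻¹ * x * S.rot ^ k) * (S.rot ^ k)⁻¹ = x by group,
      show j - 2 * k + 2 * k = j by ring] at this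
    exact this
  rw [h1, h (j - 2 * k) _, ← S.rotk_X k, show c - (j - 2 * k) + 2 * k = c + 4 * k - j by ring,
    show S.rot ^ k * (n * ((S.rot ^ k)⁻¹ * x * S.rot ^ k) * n⁻¹) * (S.rot ^ k)⁻¹ =
      S.rot ^ k * n * (S.rot ^ k)⁻¹ * x * (S.rot ^ k * n * (S.rot ^ k)⁻¹)⁻¹ by group]

theorem n1_cj : Cj S.n1 (S.o 0 1) := by
  refine Cj.symm ⟨S.o 4 1, ?_⟩
  rw [n1_word', o_inv]

theorem n2_cj : Cj S.n2 (S.e 4 0 1) := by
  refine Cj.symm ⟨S.e 0 1 0, ?_⟩
  rw [n2_word']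

theorem e_cj (a b : ℤ) (p u : F) : Cj (S.e (a : ZMod 8) p u) (S.e (b : ZMod 8) p u) :=
  ⟨S.rot ^ (b - a), by rw [S.rotk_e]; push_cast; congr 1; ring⟩

theorem o_cj (a b : ℤ) (t : F) : Cj (S.o (a : ZMod 8) t) (S.o (b : ZMod 8) t) :=
  ⟨S.rot ^ (b - a), by rw [S.rotk_o]; push_cast; congr 1; ring⟩

/-- the product of two orthogonal reflections of even type -/
theorem rot8_cj (H : Small S) {w : G} (hw : Rota S (-8) w) : Cj w (S.o 0 1) := by
  -- `w = n2 * (rot^2 n2 rot^-2)`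
  have hB : Refl S.XZ 16 (S.rot ^ (2 : ℤ) * S.n2 * (S.rot ^ (2 : ℤ))⁻¹) := by
    have := refl_rot S.n2_refl 2
    rwa [show (8 : ℤ) + 4 * 2 = 16 by norm_num] at this
  have hr : Rota S (-8) (S.n2 * (S.rot ^ (2 : ℤ) * S.n2 * (S.rot ^ (2 : ℤ))⁻¹)) := by
    have := refl_mul S.n2_refl hB
    rwa [show (8 : ℤ) - 16 = -8 by norm_num] at this
  have e1 := rota_uniq H hw hr
  have eB : S.rot ^ (2 : ℤ) * S.n2 * (S.rot ^ (2 : ℤ))⁻¹ = S.e 2 1 0 * S.e 6 0 1 * (S.e 2 1 0)⁻¹ := by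
    rw [n2_word' S]
    have h0 := S.rotk_e 2 0 1 0
    have h4 := S.rotk_e 2 4 0 1
    rw [show (0 : ZMod 8) + ((2 : ℤ) : ZMod 8) = 2 by decide] at h0
    rw [show (4 : ZMod 8) + ((2 : ℤ) : ZMod 8) = 6 by decide] at h4
    rw [← h0, ← h4]; group
  have c02 : ∀ p u q v, S.e 0 p u * S.e 2 q v = S.e 2 q v * S.e 0 p u := by
    intro p u q v
    have := S.e_e2 0 p u q v
    rwa [zero_add] at this
  have c24 : ∀ p u q v, S.e 2 p u * S.e 4 q v = S.e 4 q v * S.e 2 p u := by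
    intro p u q v
    have := S.e_e2 2 p u q v
    rwa [show (2 : ZMod 8) + 2 = 4 by decide] at this
  have c46 : ∀ p u q v, S.e 4 p u * S.e 6 q v = S.e 6 q v * S.e 4 p u := by
    intro p u q v
    have := S.e_e2 4 p u q v
    rwa [show (4 : ZMod 8) + 2 = 6 by decide] at this
  have c60 : ∀ p u q v, S.e 6 p u * S.e 0 q v = S.e 0 q v * S.e 6 p u := by
    intro p u q v
    have := S.e_e2 6 p u q v
    rwa [show (6 : ZMod 8) + 2 = 0 by decide] at this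
  have hw2 : w = (S.e 0 1 0 * S.e 2 1 0) * (S.e 4 0 1 * S.e 6 0 1) * (S.e 0 1 0 * S.e 2 1 0)⁻¹ := by
    rw [e1, eB, n2_word' S]
    have k1 : Commute (S.e 0 1 0) (S.e 2 1 0) := c02 _ _ _ _
    have k2 : Commute (S.e 2 1 0) (S.e 4 0 1) := c24 _ _ _ _
    have k3 : Commute (S.e 6 0 1) (S.e 0 1 0) := c60 _ _ _ _
    have e2 : (S.e 0 1 0)⁻¹ * (S.e 2 1 0 * S.e 6 0 1) = (S.e 2 1 0 * S.e 6 0 1) * (S.e 0 1 0)⁻¹ := by
      have : Commute (S.e 0 1 0) (S.e 2 1 0 * S.e 6 0 1) := k1.mul_right k3.symm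
      exact this.inv_left.eq
    calc S.e 0 1 0 * S.e 4 0 1 * (S.e 0 1 0)⁻¹ * (S.e 2 1 0 * S.e 6 0 1 * (S.e 2 1 0)⁻¹)
        = S.e 0 1 0 * S.e 4 0 1 * ((S.e 0 1 0)⁻¹ * (S.e 2 1 0 * S.e 6 0 1)) * (S.e 2 1 0)⁻¹ := by group
      _ = S.e 0 1 0 * (S.e 4 0 1 * S.e 2 1 0) * S.e 6 0 1 * ((S.e 0 1 0)⁻¹ * (S.e 2 1 0)⁻¹) := by rw [e2]; group
      _ = S.e 0 1 0 * (S.e 2 1 0 * S.e 4 0 1) * S.e 6 0 1 * (S.e 2 1 0 * S.e 0 1 0)⁻¹ := by
        rw [k2.eq, mul_inv_rev]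
      _ = _ := by rw [← k1.eq]; group
  have h1 : Cj w (S.e 4 0 1 * S.e 6 0 1) := by
    refine Cj.symm ⟨S.e 0 1 0 * S.e 2 1 0, ?_⟩
    rw [hw2]
  have h2 : Cj (S.e 4 0 1 * S.e 6 0 1) (S.e 2 0 1 * S.e 4 0 1) := by
    refine ⟨S.rot ^ (-2 : ℤ), ?_⟩
    have h4 := S.rotk_e (-2) 4 0 1
    have h6 := S.rotk_e (-2) 6 0 1
    rw [show (4 : ZMod 8) + ((-2 : ℤ) : ZMod 8) = 2 by decide] at h4
    rw [show (6 : ZMod 8) + ((-2 : ℤ) : ZMod 8) = 4 by decide] at h6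
    rw [← h4, ← h6]; group
  have h3 := zz_conj S (p := 1) (v := 1) one_ne_zero one_ne_zero
  simp only [map_one, mul_one] at h3
  have h4 : Cj (S.o 3 1) (S.o 0 1) := by
    have := o_cj (S := S) 3 0 (1 : F)
    push_cast at this
    exact this
  rw [← c24] at h3
  exact (h1.trans h2).trans (h3.symm.trans h4)

/-- **Involutions**, trivial torus. -/
theorem classes (H : Small S) {t : G} (ht : t * t = 1) (ht1 : t ≠ 1) (hU : ∃ k : G, k * t * k⁻¹ ∈ J S.XZ 1 8) :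
    Cj t (S.e 0 0 1) ∨ Cj t (S.o 0 1) := by
  rcases cell_long ht1 hU with h | h
  · rcases end1 H ht h with ⟨n, hn, hc⟩ | ⟨w, hw, hc⟩
    · right
      have hB : Refl S.XZ 2 (S.rot ^ (2 : ℤ) * S.n1 * (S.rot ^ (2 : ℤ))⁻¹) := by
        have := refl_rot S.n1_refl 2
        rw [show (10 : ℤ) + 4 * 2 = 2 + 16 by norm_num] at this
        exact refl_per' this
      rw [refl_uniq H hn hB] at hc
      exact (hc.trans (Cj.symm ⟨_, rfl⟩)).trans n1_cj
    · exact Or.inr (hc.trans (rot8_cj H hw))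
  · rcases end2 H ht h with ⟨n, hn, hc⟩ | ⟨w, hw, hc⟩
    · left
      have hB : Refl S.XZ 16 (S.rot ^ (2 : ℤ) * S.n2 * (S.rot ^ (2 : ℤ))⁻¹) := by
        have := refl_rot S.n2_refl 2
        rwa [show (8 : ℤ) + 4 * 2 = 16 by norm_num] at this
      rw [refl_uniq H hn hB] at hc
      have h4 : Cj (S.e 4 0 1) (S.e 0 0 1) := by
        have := e_cj (S := S) 4 0 (0 : F) 1
        push_cast at this
        exact this
      exact ((hc.trans (Cj.symm ⟨_, rfl⟩)).trans n2_cj).trans h4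
    · exact Or.inr (hc.trans (rot8_cj H hw))

end Cfsg.Agent.H84.TwF4Two
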