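import Cfsg.Agent.H84.SzLevi
import Cfsg.Agent.H84.TwF4Two
import Cfsg.Agent.KFacts.TwF4.Full
set_option linter.all false

set_option autoImplicit false

namespace Cfsg.Agent.H84.TwF4Cover

open Cfsg.Agent.KFacts.TwF4 Cfsg.Agent.H84.GaussTwF4
open Cfsg.Agent.KFacts.TwF4.Inst Cfsg.Agent.ChevalleyStructure.TwF4.TwistedFix
open Cfsg.Lie

theorem five_not_dvd (m : ℕ) : ¬ 5 ∣ 2 ^ (2 * m + 1) - 1 := by
  intro h
  have h1 := Cfsg.Agent.H84.SzLevi.five_dvd m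
  have h2 : 1 ≤ 2 ^ (2 * m + 1) := Nat.one_le_two_pow
  obtain ⟨k, hk⟩ := h
  have h3 : 2 ^ (2 * m + 1) = 5 * k + 1 := by omega
  rw [h3] at h1
  obtain ⟨j, hj⟩ := h1
  have h4 : 5 * (5 * k ^ 2 + 2 * k) + 2 = 5 * j := by rw [← hj]; ring
  omega

/-- `²F₄(q)`, `q ≥ 8` -/
theorem main {K : Type*} [Field K] [Fintype K] {m : ℕ} (hm : 1 ≤ m) (hK : Fintype.card K = 2 ^ (2 * m + 1)) :
    ∃ x : ↥(twistedF4 K (2 ^ m)), Odd (orderOf x) ∧ ∀ g : ↥(twistedF4 K (2 ^ m)), g ≠ 1 →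
      ∃ u v : ↥(twistedF4 K (2 ^ m)), g = (u * x * u⁻¹) * (v * x * v⁻¹) := by
  have hchar := Cfsg.Agent.ChevalleyStructure.TwF4.Twisted.charP_two hK
  obtain ⟨φ, hφ⟩ := exists_rln hK
  have hfin : Finite (GL chevF4.Idx K) := inferInstance
  have hq : 2 ^ 3 ≤ 2 ^ (2 * m + 1) := Nat.pow_le_pow_right (by norm_num) (by omega)
  have hcard : Nat.card Kˣ = 2 ^ (2 * m + 1) - 1 := by rw [Nat.card_units, Nat.card_eq_fintype_card, hK]
  obtain ⟨s, hs, hs5, hcov⟩ := LL_cover (full hK hφ) (k := 2 * m + 1) (by omega)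
    (by rw [Nat.card_eq_fintype_card, hK])
  obtain ⟨d, hd⟩ : ∃ d : Kˣ, d ≠ 1 := by
    classical
    have h1 : 1 < Fintype.card Kˣ := by
      rw [Fintype.card_units, hK]
      omega
    exact Fintype.exists_ne_of_one_lt_card h1 1
  have hd5 : d ^ 5 ≠ 1 := by
    intro h
    have h1 := orderOf_dvd_of_pow_eq_one h
    have h2 := orderOf_dvd_natCard d
    rw [hcard] at h2
    rcases (Nat.dvd_prime (by norm_num : Nat.Prime 5)).1 h1 with h3 | h3
    · exact hd (orderOf_eq_one_iff.1 h3)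
    · rw [h3] at h2
      exact five_not_dvd m h2
  refine ⟨s * (full hK hφ).h 1 d, ?_, fun g hg => cover hs hs5 hcov hd5 hg⟩
  have h1 : (s * (full hK hφ).h 1 d) ^ (5 * (2 ^ (2 * m + 1) - 1)) = 1 := by
    have hc : Commute s ((full hK hφ).h 1 d) := (h_comm_LL d hs).symm
    rw [hc.mul_pow, pow_mul, hs5, one_pow, one_mul, h_pow', mul_comm, pow_mul, ← hcard, pow_card_eq_one', one_pow,
      (full hK hφ).h_one]
  refine Odd.of_dvd_nat ?_ (orderOf_dvd_of_pow_eq_one h1)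
  refine Odd.mul (by decide) ?_
  exact Nat.Even.sub_odd Nat.one_le_two_pow ((Nat.even_pow' (by omega)).mpr even_two) odd_one

end Cfsg.Agent.H84.TwF4Cover
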